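import Cfsg.Agent.Lib.Helper14.QuadAbstract
import Cfsg.Agent.S1157
import Cfsg.Agent.S1073
import Cfsg.Agent.S0274

set_option autoImplicit false

namespace Cfsg.Agent.Lib.Helper85.Qd

open Matrix Cfsg.Agent.Lib.Helper14

theorem ree_no_quad {K : Type*} [Field K] [Fintype K] {m : ℕ} (hm : 1 ≤ m)
    (hK : Fintype.card K = 3 ^ (2 * m + 1)) {U : Type*} [CommGroup U] [Finite U] (hU : ∀ u : U, u ^ 3 = 1)
    (σ : ↥(Cfsg.Lie.twistedG2 K (3 ^ m)) →* MulAut U) (hσ : Function.Injective σ)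
    (x : ↥(Cfsg.Lie.twistedG2 K (3 ^ m))) (hq : QuadAut (σ x)) : x = 1 := by
  haveI : Fact (Nat.Prime 3) := ⟨Nat.prime_three⟩
  haveI : Finite ↥(Cfsg.Lie.twistedG2 K (3 ^ m)) := inferInstance
  obtain ⟨hsimp, -⟩ := Cfsg.Agent.S1073.result hm hK
  have hD : DicksonLite 3 := by
    intro F _ _ _ H hH
    exact Cfsg.Agent.S0274.result 3 (by norm_num) H hH
  have hab : ∀ T : Sylow 2 ↥(Cfsg.Lie.twistedG2 K (3 ^ m)), IsMulCommutative T := by
    intro T
    have hc := (Cfsg.Agent.S1157.result hm hK T).1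
    refine ⟨⟨fun a b => ?_⟩⟩
    apply Subtype.ext
    have ha : (a : ↥(Cfsg.Lie.twistedG2 K (3 ^ m))) ∈ Subgroup.centralizer
        ((T : Subgroup ↥(Cfsg.Lie.twistedG2 K (3 ^ m))) : Set ↥(Cfsg.Lie.twistedG2 K (3 ^ m))) := by
      rw [hc]; exact a.2
    exact (Subgroup.mem_centralizer_iff.mp ha b b.2).symm
  have hni := not_involves_SL2_of_abelian_sylow_two (p := 3)
    (G := ↥(Cfsg.Lie.twistedG2 K (3 ^ m))) (by norm_num) hab
  by_contra hx
  apply hni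
  apply involves_SL2_of_quadAut hD hU σ hσ x hq
  intro hxc
  -- the 3-core is trivial
  have hbot : Cfsg.pCore 3 ↥(Cfsg.Lie.twistedG2 K (3 ^ m)) = ⊥ := by
    unfold Cfsg.pCore
    rw [eq_bot_iff]
    apply sSup_le
    rintro N ⟨hN, hNp⟩
    rcases hsimp.eq_bot_or_eq_top_of_normal N hN with h | h
    · exact h.le
    · exfalso
      subst h
      obtain ⟨T⟩ : Nonempty (Sylow 2 ↥(Cfsg.Lie.twistedG2 K (3 ^ m))) := inferInstance
      have h168 := (Cfsg.Agent.S1157.result hm hK T).2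
      have hp2 : IsPGroup 3 ↥(Subgroup.normalizer
          ((T : Subgroup ↥(Cfsg.Lie.twistedG2 K (3 ^ m))) : Set ↥(Cfsg.Lie.twistedG2 K (3 ^ m)))) :=
        hNp.to_le le_top
      obtain ⟨k, hk⟩ := IsPGroup.iff_card.mp hp2
      rw [h168] at hk
      have h2 : 2 ∣ 3 ^ k := by rw [← hk]; norm_num
      have := (Nat.Prime.dvd_of_dvd_pow Nat.prime_two h2)
      omega
  rw [hbot, Subgroup.mem_bot] at hxc
  exact hx hxc

end Cfsg.Agent.Lib.Helper85.Qd
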